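import Groth.Agent.Lib.NormDom29.Descent
import Groth.Agent.Lib.RatSing29.CenteredHom

/-!
# Normalized blow-ups of a surface dominate proper birational morphisms
-/

set_option autoImplicit false
set_option linter.all false
set_option backward.isDefEq.respectTransparency false

universe u

open CategoryTheory CategoryTheory.Limits AlgebraicGeometry TopologicalSpace IsLocalRing Opposite

noncomputable section

namespace GrothLib.NormDom29

theorem not_isClosed_generic {X : Scheme.{u}} [IsIntegral X] (hdim : topologicalKrullDim X = 2) :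
    ¬ IsClosed ({genericPoint X} : Set X) := fun hc => by
  have hsub : ∀ y : X, y = genericPoint X := fun y =>
    hc.closure_subset (((genericPoint_spec X).specializes trivial).mem_closure)
  haveI : Subsingleton X := ⟨fun a b => (hsub a).trans (hsub b).symm⟩
  haveI : Subsingleton (IrreducibleCloseds X) := ⟨fun a b => IrreducibleCloseds.ext (by
    rw [Subsingleton.eq_univ_of_nonempty a.isIrreducible.nonempty, Subsingleton.eq_univ_of_nonempty b.isIrreducible.nonempty])⟩
  have h0 : topologicalKrullDim X ≤ 0 := Order.krullDim_nonpos_of_subsingleton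
  rw [hdim] at h0
  exact absurd h0 (by decide)

/-- The generic point of a local scheme maps to the generic point. -/
theorem fromSpecStalk_genericPoint {Z : Scheme.{u}} [IsIntegral Z] (z : Z) :
    Z.fromSpecStalk z (genericPoint (Spec (Z.presheaf.stalk z))) = genericPoint Z := by
  obtain ⟨p, hp⟩ : genericPoint Z ∈ Set.range (Z.fromSpecStalk z) := by
    rw [Scheme.range_fromSpecStalk]
    exact genericPoint_specializes z
  have h : Z.fromSpecStalk z (genericPoint (Spec (Z.presheaf.stalk z))) ⤳ genericPoint Z :=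
    hp ▸ (genericPoint_specializes p).map (Z.fromSpecStalk z).continuous
  exact (h.antisymm (genericPoint_specializes _)).eq

/-- A point over a pair of closed points is closed, for a finite morphism into the fibre product. -/
theorem isClosed_of_finite_pair {Z W Y X : Scheme.{u}} (g : W ⟶ X) (f : Y ⟶ X) [IsProper g] [IsProper f]
    (π₁ : Z ⟶ W) (π₂ : Z ⟶ Y) (h : π₁ ≫ g = π₂ ≫ f) [IsFinite (pullback.lift π₁ π₂ h)] {v : Z}
    (h1 : IsClosed ({π₁ v} : Set W)) (h2 : IsClosed ({π₂ v} : Set Y)) : IsClosed ({v} : Set Z) := by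
  set φ := pullback.lift π₁ π₂ h
  have hq : IsClosed ({φ v} : Set ↥(pullback g f)) := by
    refine isClosed_of_fst_snd g f _ ?_ ?_
    · rwa [← Scheme.Hom.comp_apply, pullback.lift_fst]
    · rwa [← Scheme.Hom.comp_apply, pullback.lift_snd]
  refine closure_subset_iff_isClosed.1 fun c hc => ?_
  have hvc : v ⤳ c := specializes_iff_mem_closure.2 hc
  have hd : _root_.IsDiscrete (φ ⁻¹' {φ v}) := φ.isDiscrete_preimage_singleton _
  haveI := hd.to_subtype
  have hpc : φ c = φ v := by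
    have := closure_minimal (Set.singleton_subset_iff.2 (show v ∈ φ ⁻¹' {φ v} from rfl)) (hq.preimage φ.continuous) hc
    exact this
  have h3 : (⟨v, rfl⟩ : ↥(φ ⁻¹' {φ v})) ⤳ ⟨c, hpc⟩ := subtype_specializes_iff _ _ |>.2 hvc
  exact (congrArg Subtype.val (specializes_iff_eq.1 h3)).symm

/-- A normal modification dominating two modifications, finite over their fibre product. -/
theorem exists_normal_join_finite {S : Scheme.{u}} [IsIntegral S] [IsNoetherian S]
    (hN : HasFiniteNorm S)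
    {X₁ X₂ : Scheme.{u}} (f₁ : X₁ ⟶ S) (f₂ : X₂ ⟶ S) [IsProper f₁] [IsProper f₂]
    (hb₁ : ∃ U : S.Opens, (U : Set S).Nonempty ∧ IsIso (f₁ ∣_ U))
    (hb₂ : ∃ U : S.Opens, (U : Set S).Nonempty ∧ IsIso (f₂ ∣_ U)) :
    ∃ (X₃ : Scheme.{u}) (π₁ : X₃ ⟶ X₁) (π₂ : X₃ ⟶ X₂) (h : π₁ ≫ f₁ = π₂ ≫ f₂),
      IsProper (π₁ ≫ f₁) ∧ IsIntegral X₃ ∧ IsFinite (pullback.lift π₁ π₂ h) ∧
      ∃ U : S.Opens, genericPoint S ∈ U ∧ IsIso (f₁ ∣_ U) ∧ IsIso ((π₁ ≫ f₁) ∣_ U) := by
  obtain ⟨U₁, ⟨u₁, hu₁⟩, hi₁⟩ := hb₁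
  obtain ⟨U₂, ⟨u₂, hu₂⟩, hi₂⟩ := hb₂
  let U := U₁ ⊓ U₂
  have hηU : genericPoint S ∈ U := ⟨(genericPoint_specializes u₁).mem_open U₁.isOpen hu₁,
    (genericPoint_specializes u₂).mem_open U₂.isOpen hu₂⟩
  haveI := hi₁; haveI := hi₂
  haveI : IsIso (f₁ ∣_ U) := Nagata6.isIso_restrict_of_pullback
    (IsPullback.id_horiz f₁).flip.flip U₁ U inf_le_left
  let P := pullback f₁ f₂
  let f : P ⟶ S := pullback.fst f₁ f₂ ≫ f₁
  haveI : IsIso (f ∣_ U) := by
    haveI : IsIso (pullback.fst f₁ f₂ ∣_ f₁ ⁻¹ᵁ U) :=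
      Nagata6.isIso_restrict_of_pullback (IsPullback.of_hasPullback f₁ f₂).flip U₂ _
        (f₁.preimage_mono inf_le_right)
    show IsIso ((pullback.fst f₁ f₂ ≫ f₁) ∣_ U)
    rw [morphismRestrict_comp]
    infer_instance
  obtain ⟨p, hp⟩ := (f ∣_ U).homeomorph.surjective ⟨_, hηU⟩
  let T : Closeds P := ⟨closure {p.1}, isClosed_closure⟩
  let Z := (Scheme.IdealSheafData.vanishingIdeal T).subscheme
  let j : Z ⟶ P := (Scheme.IdealSheafData.vanishingIdeal T).subschemeι
  haveI : IsIntegral Z := Euler.isIntegral_vanishingIdeal T isIrreducible_singleton.closure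
  have hsup : Set.range j = closure {p.1} := by
    rw [Scheme.IdealSheafData.range_subschemeι, Scheme.IdealSheafData.coe_support_vanishingIdeal]
    rfl
  haveI : IsIso (j ∣_ f ⁻¹ᵁ U) := by
    haveI : IsReduced (f ⁻¹ᵁ U : Scheme.{u}) := by
      haveI : IsReduced (U : Scheme.{u}) := isReduced_of_isOpenImmersion U.ι
      exact isReduced_of_isOpenImmersion (f ∣_ U)
    haveI : Surjective (j ∣_ f ⁻¹ᵁ U) := ⟨fun q => by
      have hq : q.1 ∈ closure ({p.1} : Set P) := by
        have h : p ⤳ q := by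
          refine (f ∣_ U).homeomorph.isInducing.specializes_iff.1 ?_
          rw [hp]
          exact (subtype_specializes_iff _ _).2 (genericPoint_specializes _)
        exact specializes_iff_mem_closure.1 (h.map continuous_subtype_val)
      rw [← hsup] at hq
      obtain ⟨z, hz⟩ := hq
      refine ⟨⟨z, show j z ∈ f ⁻¹ᵁ U from hz.symm ▸ q.2⟩, Subtype.ext ?_⟩
      show ((j ∣_ f ⁻¹ᵁ U) ≫ (f ⁻¹ᵁ U).ι) _ = _
      rw [morphismRestrict_ι, Scheme.Hom.comp_apply]
      exact hz⟩
    exact isIso_of_isClosedImmersion_of_surjective _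
  let b := j ≫ f
  have hb : IsIso (b ∣_ U) := by
    rw [morphismRestrict_comp]
    infer_instance
  haveI : IsLocallyNoetherian Z := LocallyOfFiniteType.isLocallyNoetherian b
  haveI : CompactSpace Z := QuasiCompact.compactSpace_of_compactSpace b
  haveI : IsNoetherian Z := {}
  haveI : QuasiCompact (Z.fromSpecStalk (genericPoint Z)) := inferInstance
  haveI : QuasiSeparated (Z.fromSpecStalk (genericPoint Z)) := inferInstance
  have hfin := hN Z b inferInstance ⟨U, ⟨_, hηU⟩, hb⟩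
  haveI := hfin
  let ν := Curv2.normalizationι Z
  have hcond : (ν ≫ j ≫ pullback.fst f₁ f₂) ≫ f₁ = (ν ≫ j ≫ pullback.snd f₁ f₂) ≫ f₂ := by
    simp only [Category.assoc, pullback.condition]
  have hassoc : (ν ≫ j ≫ pullback.fst f₁ f₂) ≫ f₁ = ν ≫ b := by simp only [b, f, Category.assoc]
  refine ⟨Curv2.normalization Z, _, _, hcond, ?_, inferInstance, ?_, ?_⟩
  · rw [hassoc]; infer_instance
  · have e : pullback.lift _ _ hcond = ν ≫ j := by
      refine pullback.hom_ext ?_ ?_ <;> simp only [pullback.lift_fst, pullback.lift_snd, Category.assoc]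
    rw [e]
    infer_instance
  · rw [hassoc]
    obtain ⟨V, hV, hVi⟩ := GrothLib.RatSing29.exists_isIso_comp ν b
      (GrothLib.NormFib.exists_isIso_of_finite hfin) ⟨U, ⟨_, hηU⟩, hb⟩
    haveI := hVi
    exact ⟨V ⊓ U, ⟨genericPoint_mem hV, hηU⟩,
      Nagata6.isIso_restrict_of_pullback (IsPullback.id_horiz f₁).flip.flip U (V ⊓ U) inf_le_right,
      Nagata6.isIso_restrict_of_pullback (IsPullback.id_horiz (ν ≫ b)).flip.flip V (V ⊓ U) inf_le_left⟩

set_option maxHeartbeats 800000 in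
/-- Normalized blow-ups dominate every proper birational morphism. -/
theorem exists_stage_dominate {X : Scheme.{u}} [IsIntegral X] [IsNoetherian X]
    (hN : HasFiniteNorm X) (hdim : topologicalKrullDim X = 2)
    [QuasiCompact (X.fromSpecStalk (genericPoint X))] [QuasiSeparated (X.fromSpecStalk (genericPoint X))]
    {Y : Scheme.{u}} [IsIntegral Y] (f : Y ⟶ X) [IsProper f]
    (hbir : ∃ U : X.Opens, (U : Set X).Nonempty ∧ IsIso (f ∣_ U)) :
    ∃ (W : Scheme.{u}) (g : W ⟶ X) (r : W ⟶ Curv2.normalization X), IsStage g r ∧ ∃ h : W ⟶ Y, h ≫ f = g := by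
  classical
  have hXη := not_isClosed_generic hdim
  haveI : IsLocallyNoetherian Y := LocallyOfFiniteType.isLocallyNoetherian f
  haveI : CompactSpace Y := QuasiCompact.compactSpace_of_compactSpace f
  haveI : IsNoetherian Y := {}
  haveI : QuasiCompact (Y.fromSpecStalk (genericPoint Y)) := inferInstance
  haveI : QuasiSeparated (Y.fromSpecStalk (genericPoint Y)) := inferInstance
  have hfinY := hN Y f inferInstance hbir
  haveI := hfinY
  let Z0 := Curv2.normalization Y
  let f0 : Z0 ⟶ X := Curv2.normalizationι Y ≫ f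
  obtain ⟨V0, hV0, hVi0⟩ := GrothLib.RatSing29.exists_isIso_comp (Curv2.normalizationι Y) f
    (GrothLib.NormFib.exists_isIso_of_finite hfinY) hbir
  haveI : IsIso (f0 ∣_ V0) := hVi0
  haveI : IsLocallyNoetherian Z0 := LocallyOfFiniteType.isLocallyNoetherian f0
  haveI : CompactSpace Z0 := QuasiCompact.compactSpace_of_compactSpace f0
  haveI : IsNoetherian Z0 := {}
  have hdim0 : topologicalKrullDim Z0 ≤ 2 :=
    GrothLib.RatSing29.dim_le_of_birational f0 V0 hV0 inferInstance hdim.le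
  obtain ⟨e0, hb0⟩ := GrothLib.ExcP1.birational_of_iso_over (f := f0) V0 hV0
  let C := GrothLib.ExcP1.curvesOver f0
  have hCfin : C.Finite := GrothLib.ExcP1.finite_curvesOver hdim0 V0 hV0 e0
  -- the local curves
  let fT : ∀ ζ : Z0, Spec (Z0.presheaf.stalk ζ) ⟶ X := fun ζ => Z0.fromSpecStalk ζ ≫ f0
  have hfTη : ∀ ζ, fT ζ (genericPoint (Spec (Z0.presheaf.stalk ζ))) = genericPoint X := fun ζ => by
    rw [Scheme.Hom.comp_apply, fromSpecStalk_genericPoint, e0]
  have hfTb : ∀ ζ, Function.Bijective ((fT ζ).stalkMap (genericPoint (Spec (Z0.presheaf.stalk ζ)))) := fun ζ => by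
    haveI := GrothLib.FEt21.flat_fromSpecStalk ζ
    have h1 := GrothLib.ArSurf29.isIso_stalkMap_of_flat_preimmersion (Z0.fromSpecStalk ζ)
      (genericPoint (Spec (Z0.presheaf.stalk ζ)))
    have h1' := ConcreteCategory.bijective_of_isIso ((Z0.fromSpecStalk ζ).stalkMap (genericPoint (Spec (Z0.presheaf.stalk ζ))))
    have key : ∀ e : Z0, e = genericPoint Z0 → Function.Bijective (f0.stalkMap e) := by
      rintro e rfl
      exact hb0
    have h2 := key _ (fromSpecStalk_genericPoint ζ)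
    show Function.Bijective ((Z0.fromSpecStalk ζ ≫ f0).stalkMap _)
    rw [Scheme.Hom.stalkMap_comp]
    exact h1'.comp h2
  have hreg : ∀ ζ ∈ C, (∀ t : Spec (Z0.presheaf.stalk ζ), IsRegularLocalRing ((Spec (Z0.presheaf.stalk ζ)).presheaf.stalk t)) ∧
      topologicalKrullDim (Spec (Z0.presheaf.stalk ζ)) ≤ 1 := by
    intro ζ hζ
    obtain ⟨c, hc, hcl⟩ := GrothLib.ArSurf29.exists_isClosed_specialization ζ
    have hne : ζ ≠ c := fun h => hζ.1 (h ▸ hcl)
    have hζη : ζ ≠ genericPoint Z0 := fun h => hXη (by rw [← e0, ← h]; exact hζ.2)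
    obtain ⟨_, hic⟩ := GrothLib.NormFib.isNormalScheme_normalization (X := Y) ζ
    haveI := GrothLib.RatSing29.isDiscreteValuationRing_stalk_of_curve hdim0 hc hne hζη hic
    refine ⟨fun t => IsRegularLocalRing.of_ringEquiv (R := Localization.AtPrime t.asIdeal)
      (StructureSheaf.stalkIso _ t).toRingEquiv, ?_⟩
    refine (PrimeSpectrum.topologicalKrullDim_eq_ringKrullDim _).trans_le ?_
    exact Ring.krullDimLE_iff.1 inferInstance
  have hres : ∀ ζ ∈ C, ¬ ((fT ζ).residueFieldMap (closedPoint (Z0.presheaf.stalk ζ))).hom.IsIntegral := by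
    intro ζ hζ h
    refine hζ.1 ?_
    have hcl : IsClosed ({fT ζ (closedPoint (Z0.presheaf.stalk ζ))} : Set X) := by
      rw [Scheme.Hom.comp_apply, Scheme.fromSpecStalk_closedPoint]
      exact hζ.2
    have h1 := isClosed_of_isIntegral (Z0.fromSpecStalk ζ) f0 _ hcl h
    rwa [Scheme.fromSpecStalk_closedPoint] at h1
  let Good : Finset Z0 → ∀ {W : Scheme.{u}}, (W ⟶ X) → Prop := fun s W g => ∀ ζ ∈ C,
    ∃ τ : Spec (Z0.presheaf.stalk ζ) ⟶ W, τ ≫ g = fT ζ ∧
      (ζ ∈ s → ¬ IsClosed ({τ (closedPoint (Z0.presheaf.stalk ζ))} : Set W))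
  have main : ∀ s : Finset Z0, (↑s : Set Z0) ⊆ C →
      ∃ (W : Scheme.{u}) (g : W ⟶ X) (r : W ⟶ Curv2.normalization X), IsStage g r ∧ Good s g := by
    intro s
    induction s using Finset.induction_on with
    | empty =>
      intro _
      refine ⟨_, _, _, stage_zero hN, fun ζ hζ => ?_⟩
      have hTn : Pi1.IsNormalScheme (Spec (Z0.presheaf.stalk ζ)) := fun t => by
        haveI := (hreg ζ hζ).1 t
        exact ⟨inferInstance, GrothLib.RegLoc.isIntegrallyClosed_of_isRegularLocalRing _⟩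
      obtain ⟨τ, hτ, -⟩ := NormFac9.existsUnique_fac (fT ζ) hTn fun t ht => by
        rw [irreducibleComponents_eq_singleton, Set.mem_singleton_iff] at ht
        rw [(isGenericPoint_def.2 ht).eq (genericPoint_spec _)]
        exact hfTη ζ
      exact ⟨τ, hτ, fun h => absurd h (Finset.notMem_empty _)⟩
    | insert a s ha ih =>
      intro hsub
      obtain ⟨W, g, r, hst, hgood⟩ := ih (fun x hx => hsub (Finset.mem_insert_of_mem hx))
      have haC : a ∈ C := hsub (Finset.mem_insert_self a s)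
      obtain ⟨τa, hτa, -⟩ := hgood a haC
      have hstable : ∀ {W W' : Scheme.{u}} (g : W ⟶ X) (π : W' ⟶ W) (r : W ⟶ Curv2.normalization X)
          (r' : W' ⟶ Curv2.normalization X) (z : W), IsStage g r → IsStage (π ≫ g) r' → IsClosed ({z} : Set W) →
          (∀ {T : Scheme.{u}} [IsIntegral T] [IsLocallyNoetherian T] (τ : T ⟶ W),
            (∀ t : T, IsRegularLocalRing (T.presheaf.stalk t)) → topologicalKrullDim T ≤ 1 →
            (τ ≫ g) (genericPoint T) = genericPoint X → ∃ τ' : T ⟶ W', τ' ≫ π = τ) →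
          Good s g → Good s (π ≫ g) := by
        intro W W' g π r r' z hst hst' hz hlift hG ζ hζ
        obtain ⟨τ, hτ, hn⟩ := hG ζ hζ
        obtain ⟨τ', hτ'⟩ := hlift τ (hreg ζ hζ).1 (hreg ζ hζ).2 (by rw [hτ, hfTη])
        refine ⟨τ', by rw [reassoc_of% hτ', hτ], fun hs hc => hn hs ?_⟩
        haveI := hst.proper; haveI := hst'.proper
        haveI : UniversallyClosed π := UniversallyClosed.of_comp_of_isSeparated π g
        rw [← hτ', Scheme.Hom.comp_apply, ← Set.image_singleton]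
        exact π.isClosedMap _ hc
      have hrega := hreg a haC
      have hopen := exists_centre_open hN hXη (Good s) hstable (T := Spec (Z0.presheaf.stalk a))
        (closedPoint (Z0.presheaf.stalk a)) hrega.1 hrega.2 (fT a) (hfTη a) (hfTb a) (hres a haC)
        hst hgood τa hτa
      obtain ⟨W', g', r', hst', hgood', τ', hτ', hncl⟩ := hopen
      refine ⟨W', g', r', hst', fun ζ hζ => ?_⟩
      by_cases hζa : ζ = a
      · subst hζa
        exact ⟨τ', hτ', fun _ => hncl⟩
      · obtain ⟨τ, hτ, hn⟩ := hgood' ζ hζ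
        exact ⟨τ, hτ, fun h => hn ((Finset.mem_insert.1 h).resolve_left hζa)⟩
  obtain ⟨W, g, r, hst, hgood⟩ := main hCfin.toFinset (by simp)
  haveI := hst.integral; haveI := hst.proper; haveI := hst.noeth
  refine ⟨W, g, r, hst, ?_⟩
  obtain ⟨Z, π₁, π₂, hπ, hZp, hZi, hZf, V, hηV, hgV, hZV⟩ :=
    exists_normal_join_finite hN g f0 hst.birat ⟨V0, hV0, inferInstance⟩
  haveI := hZp; haveI := hZi; haveI := hZf; haveI := hgV; haveI := hZV
  haveI : IsProper π₁ := by
    haveI : UniversallyClosed π₁ := UniversallyClosed.of_comp_of_isSeparated π₁ g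
    haveI : LocallyOfFiniteType π₁ := locallyOfFiniteType_of_comp π₁ g
    haveI : IsSeparated π₁ := IsSeparated.of_comp π₁ g
    exact {}
  haveI : IsLocallyNoetherian Z := LocallyOfFiniteType.isLocallyNoetherian (π₁ ≫ g)
  haveI : CompactSpace Z := QuasiCompact.compactSpace_of_compactSpace (π₁ ≫ g)
  haveI : IsNoetherian Z := {}
  have hdimZ : topologicalKrullDim Z ≤ 2 :=
    GrothLib.RatSing29.dim_le_of_birational (π₁ ≫ g) V ⟨_, hηV⟩ inferInstance hdim.le
  haveI : IsIso (π₁ ∣_ g ⁻¹ᵁ V) := by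
    have h : IsIso ((π₁ ∣_ g ⁻¹ᵁ V) ≫ (g ∣_ V)) := by
      rw [← morphismRestrict_comp]
      infer_instance
    exact IsIso.of_isIso_comp_right _ (g ∣_ V)
  have hne : ((g ⁻¹ᵁ V : W.Opens) : Set W).Nonempty :=
    ⟨genericPoint W, show g (genericPoint W) ∈ V from hst.apply_genericPoint.symm ▸ hηV⟩
  have hno : GrothLib.ExcP1.curvesOver π₁ = ∅ := by
    refine Set.eq_empty_iff_forall_notMem.2 fun v hv => ?_
    have hv2 : ¬ IsClosed ({π₂ v} : Set Z0) := fun hc => hv.1 (isClosed_of_finite_pair g f0 π₁ π₂ hπ hv.2 hc)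
    have hζC : π₂ v ∈ C := ⟨hv2, by
      rw [← Scheme.Hom.comp_apply, ← hπ, Scheme.Hom.comp_apply, ← Set.image_singleton]
      exact g.isClosedMap _ hv.2⟩
    obtain ⟨τ, hτ, hn⟩ := hgood _ hζC
    refine hn ((Set.Finite.mem_toFinset _).2 hζC) ?_
    let α : Spec (Z.presheaf.stalk v) ⟶ Spec (Z0.presheaf.stalk (π₂ v)) := Spec.map (π₂.stalkMap v)
    have hj : α ≫ Z0.fromSpecStalk (π₂ v) = Z.fromSpecStalk v ≫ π₂ := Scheme.SpecMap_stalkMap_fromSpecStalk π₂
    have hover : (α ≫ τ) ≫ g = (Z.fromSpecStalk v ≫ π₁) ≫ g := by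
      rw [Category.assoc, hτ, reassoc_of% hj, Category.assoc, hπ]
    obtain ⟨eZ, -⟩ := GrothLib.ExcP1.birational_of_iso_over (f := π₁ ≫ g) V ⟨_, hηV⟩
    have heq : α ≫ τ = Z.fromSpecStalk v ≫ π₁ := hom_ext_over g V _ _ hover (by
      rw [hover, Category.assoc, Scheme.Hom.comp_apply, fromSpecStalk_genericPoint, eZ]
      exact hηV)
    have hα : α (closedPoint (Z.presheaf.stalk v)) = closedPoint (Z0.presheaf.stalk (π₂ v)) :=
      IsLocalRing.comap_closedPoint (π₂.stalkMap v).hom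
    have h2 := congrArg (fun φ : Spec (Z.presheaf.stalk v) ⟶ W => φ (closedPoint (Z.presheaf.stalk v))) heq
    simp only [Scheme.Hom.comp_apply, Scheme.fromSpecStalk_closedPoint, hα] at h2
    rw [h2]
    exact hv.2
  haveI : IsIso π₁ := GrothLib.ExcP1.isIso_of_no_curves hdimZ (g ⁻¹ᵁ V) hne (fun w => (hst.normal w).2) hno
  refine ⟨inv π₁ ≫ π₂ ≫ Curv2.normalizationι Y, ?_⟩
  rw [Category.assoc, Category.assoc, IsIso.inv_comp_eq, hπ]

end GrothLib.NormDom29
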