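import Groth.Agent.Lib.CurveResol29.Disjoint
import Groth.Agent.Lib.RatSing29.Join
import Groth.Agent.Lib.NormFac9.Basic
import Groth.Prelude.Def_ResolveSeq

/-!
# Modifications of surfaces and their centres
-/

set_option autoImplicit false
set_option linter.all false
set_option backward.isDefEq.respectTransparency false

universe u

open CategoryTheory CategoryTheory.Limits AlgebraicGeometry TopologicalSpace IsLocalRing Opposite

noncomputable section

namespace GrothLib.NormDom29

/-- Every modification of `X` has finite normalization. -/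
def HasFiniteNorm (X : Scheme.{u}) : Prop :=
  ∀ (Z : Scheme.{u}) [IsIntegral Z] [QuasiCompact (Z.fromSpecStalk (genericPoint Z))]
    [QuasiSeparated (Z.fromSpecStalk (genericPoint Z))] (b : Z ⟶ X), IsProper b →
    (∃ V : X.Opens, (V : Set X).Nonempty ∧ IsIso (b ∣_ V)) → IsFinite (Curv2.normalizationι Z)

theorem hasFiniteNorm_of_nagata {X : Scheme.{u}} [IsNoetherian X] (hN : ∀ U : X.affineOpens, CAlg.IsNagata Γ(X, U.1)) :
    HasFiniteNorm X := by
  intro Z _ _ _ b hb _
  haveI := hb
  haveI : IsLocallyNoetherian Z := LocallyOfFiniteType.isLocallyNoetherian b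
  haveI : CompactSpace Z := QuasiCompact.compactSpace_of_compactSpace b
  haveI : IsNoetherian Z := {}
  exact GrothLib.NormFib.isFinite_of_nagata (GrothLib.BlowUpProper.isNagata_of_locallyOfFiniteType b hN)

/-- The morphism of a closed point over a closed point of the base is finite. -/
theorem isFinite_fromSpecResidueField_comp {W X : Scheme.{u}} (g : W ⟶ X) [IsProper g] {w : W}
    (hw : IsClosed ({w} : Set W)) : IsFinite (W.fromSpecResidueField w ≫ g) := by
  haveI : IsClosedImmersion (W.fromSpecResidueField w) := isClosed_singleton_iff_isClosedImmersion.1 hw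
  haveI : LocallyQuasiFinite (W.fromSpecResidueField w ≫ g) :=
    LocallyQuasiFinite.of_finite_preimage_singleton _ fun x => Set.toFinite _
  exact IsFinite.of_isProper_of_locallyQuasiFinite _

/-- The residue extension of a closed point of a proper scheme is integral. -/
theorem isIntegral_residueFieldMap {W X : Scheme.{u}} (g : W ⟶ X) [IsProper g] {w : W}
    (hw : IsClosed ({w} : Set W)) : (g.residueFieldMap w).hom.IsIntegral := by
  haveI := isFinite_fromSpecResidueField_comp g hw
  have h := g.SpecMap_residueFieldMap_fromSpecResidueField w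
  haveI : IsFinite (Spec.map (g.residueFieldMap w) ≫ X.fromSpecResidueField (g w)) := by rw [h]; infer_instance
  haveI : IsFinite (Spec.map (g.residueFieldMap w)) := IsFinite.of_comp _ (X.fromSpecResidueField (g w))
  exact ((IsFinite.SpecMap_iff _).1 inferInstance).to_isIntegral

/-- A point with algebraic residue field over a closed point of the base is closed. -/
theorem isClosed_of_isIntegral {T Z X : Scheme.{u}} (j : T ⟶ Z) (q : Z ⟶ X) [IsSeparated q] (t : T)
    (hx : IsClosed ({(j ≫ q) t} : Set X)) (h : ((j ≫ q).residueFieldMap t).hom.IsIntegral) :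
    IsClosed ({j t} : Set Z) := by
  haveI : IsIntegralHom (Spec.map ((j ≫ q).residueFieldMap t)) := IsIntegralHom.SpecMap_iff.2 h
  haveI : IsClosedImmersion (X.fromSpecResidueField ((j ≫ q) t)) := isClosed_singleton_iff_isClosedImmersion.1 hx
  haveI : UniversallyClosed ((T.fromSpecResidueField t ≫ j) ≫ q) := by
    rw [Category.assoc, ← (j ≫ q).SpecMap_residueFieldMap_fromSpecResidueField t]
    infer_instance
  haveI : UniversallyClosed (T.fromSpecResidueField t ≫ j) := UniversallyClosed.of_comp_of_isSeparated _ q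
  have h1 := (T.fromSpecResidueField t ≫ j).isClosedMap.isClosed_range
  rwa [Scheme.Hom.comp_base, TopCat.coe_comp, Set.range_comp, Scheme.range_fromSpecResidueField,
    Set.image_singleton] at h1

theorem integral_elem_comp {T W X : Scheme.{u}} (τ : T ⟶ W) (g : W ⟶ X) [IsProper g] (t : T)
    (hw : IsClosed ({τ t} : Set W)) (f : T ⟶ X) (hf : τ ≫ g = f) (s : T.presheaf.stalk t)
    (hs : s ∈ Set.range (τ.stalkMap t)) : (f.residueFieldMap t).hom.IsIntegralElem (T.residue t s) := by
  subst hf
  obtain ⟨r, rfl⟩ := hs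
  have h1 : T.residue t (τ.stalkMap t r) = τ.residueFieldMap t (W.residue (τ t) r) :=
    (congr($(Scheme.residue_residueFieldMap τ t) r)).symm
  rw [h1, Scheme.residueFieldMap_comp, CommRingCat.hom_comp]
  obtain ⟨p, hp, hpe⟩ := isIntegral_residueFieldMap g hw (W.residue (τ t) r)
  refine ⟨p, hp, ?_⟩
  rw [← Polynomial.hom_eval₂, hpe, map_zero]

/-- The range of the stalk map grows along a factorization. -/
theorem range_stalkMap_subset {T W' W : Scheme.{u}} (τ : T ⟶ W) (τ' : T ⟶ W') (π : W' ⟶ W) (h : τ' ≫ π = τ) (t : T) :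
    Set.range (τ.stalkMap t) ⊆ Set.range (τ'.stalkMap t) := by
  subst h
  rintro _ ⟨r, rfl⟩
  exact ⟨π.stalkMap (τ' t) r, (congr($(Scheme.Hom.stalkMap_comp τ' π t) r)).symm⟩

theorem exists_fraction_aux {W : Scheme.{u}} [IsIntegral W] (e w : W) (he : e = genericPoint W) (h : e ⤳ w)
    (k : W.presheaf.stalk e) : ∃ β γ : W.presheaf.stalk w, γ ≠ 0 ∧
      W.presheaf.stalkSpecializes h γ * k = W.presheaf.stalkSpecializes h β := by
  subst he
  obtain ⟨β, γ, hγ, rfl⟩ := IsFractionRing.div_surjective (A := W.presheaf.stalk w) (K := W.functionField) k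
  refine ⟨β, γ, nonZeroDivisors.ne_zero hγ, ?_⟩
  show algebraMap (W.presheaf.stalk w) W.functionField γ * _ = algebraMap (W.presheaf.stalk w) W.functionField β
  exact mul_div_cancel₀ _ ((map_ne_zero_iff _ (IsFractionRing.injective _ _)).2 (nonZeroDivisors.ne_zero hγ))

/-- Every element of a local ring of a birational scheme is a fraction of functions at the centre. -/
theorem exists_fraction {T W : Scheme.{u}} [IsIntegral T] [IsIntegral W] (τ : T ⟶ W)
    (hη : τ (genericPoint T) = genericPoint W) (hb : Function.Bijective (τ.stalkMap (genericPoint T)))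
    (t : T) (a : T.presheaf.stalk t) :
    ∃ c ∈ Set.range (τ.stalkMap t), c ≠ 0 ∧ a * c ∈ Set.range (τ.stalkMap t) := by
  have hs : genericPoint T ⤳ t := genericPoint_specializes t
  obtain ⟨k, hk⟩ := hb.2 (T.presheaf.stalkSpecializes hs a)
  obtain ⟨β, γ, hγ, hβ⟩ := exists_fraction_aux (τ (genericPoint T)) (τ t) hη (hs.map τ.continuous) k
  have hinj : Function.Injective (T.presheaf.stalkSpecializes hs) := IsFractionRing.injective (T.presheaf.stalk t) T.functionField
  have hnat := fun y => Scheme.Hom.stalkSpecializes_stalkMap_apply τ (genericPoint T) t hs y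
  refine ⟨τ.stalkMap t γ, ⟨γ, rfl⟩, fun h0 => hγ ?_, β, hinj ?_⟩
  · have h1 := hnat γ
    rw [h0, map_zero] at h1
    have hinjW : Function.Injective (W.presheaf.stalkSpecializes (hs.map τ.continuous)) := by
      have key : ∀ (e : W) (he : e = genericPoint W) (h : e ⤳ τ t), Function.Injective (W.presheaf.stalkSpecializes h) := by
        intro e he h
        subst he
        exact IsFractionRing.injective (W.presheaf.stalk (τ t)) W.functionField
      exact key _ hη _
    exact hinjW (hb.1 (h1.trans (map_zero _).symm) |>.trans (map_zero _).symm)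
  · rw [map_mul, ← hnat, ← hnat, ← hk, ← map_mul, ← hβ, mul_comm]

/-- Two morphisms over the base agreeing at the generic point agree. -/
theorem hom_ext_over {T W X : Scheme.{u}} [IsIntegral T] (g : W ⟶ X) [IsSeparated g] (V : X.Opens) [IsIso (g ∣_ V)]
    (τ τ' : T ⟶ W) (h : τ ≫ g = τ' ≫ g) (hT : (τ ≫ g) (genericPoint T) ∈ V) : τ = τ' := by
  let O : T.Opens := (τ ≫ g) ⁻¹ᵁ V
  haveI : IsDominant O.ι := ⟨by
    show Dense (Set.range O.ι)
    rw [Scheme.Opens.range_ι]
    exact O.isOpen.dense ⟨_, hT⟩⟩
  refine ext_of_isDominant_of_isSeparated g h O.ι ?_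
  have hr : ∀ σ : T ⟶ W, σ ≫ g = τ ≫ g → Set.range (O.ι ≫ σ) ⊆ Set.range (g ⁻¹ᵁ V).ι := by
    rintro σ hσ _ ⟨y, rfl⟩
    rw [Scheme.Opens.range_ι]
    show g ((O.ι ≫ σ) y) ∈ V
    rw [← Scheme.Hom.comp_apply, Category.assoc, hσ, Scheme.Hom.comp_apply]
    exact y.2
  haveI : Mono ((g ⁻¹ᵁ V).ι ≫ g) := by
    rw [← morphismRestrict_ι]
    infer_instance
  rw [← IsOpenImmersion.lift_fac (g ⁻¹ᵁ V).ι (O.ι ≫ τ) (hr τ rfl),
    ← IsOpenImmersion.lift_fac (g ⁻¹ᵁ V).ι (O.ι ≫ τ') (hr τ' h.symm)]
  congr 1
  rw [← cancel_mono ((g ⁻¹ᵁ V).ι ≫ g), IsOpenImmersion.lift_fac_assoc, IsOpenImmersion.lift_fac_assoc,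
    Category.assoc, Category.assoc, h]

/-- The points of a fibre product over a pair of closed points are closed. -/
theorem isClosed_of_fst_snd {W Y X : Scheme.{u}} (g : W ⟶ X) (f : Y ⟶ X) [IsProper g] [IsProper f]
    (q : ↥(pullback g f)) (hw : IsClosed ({pullback.fst g f q} : Set W)) (hy : IsClosed ({pullback.snd g f q} : Set Y)) :
    IsClosed ({q} : Set ↥(pullback g f)) := by
  set w := pullback.fst g f q
  set y := pullback.snd g f q
  haveI := isFinite_fromSpecResidueField_comp g hw
  haveI := isFinite_fromSpecResidueField_comp f hy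
  haveI : IsClosedImmersion (W.fromSpecResidueField w) := isClosed_singleton_iff_isClosedImmersion.1 hw
  haveI : IsClosedImmersion (Y.fromSpecResidueField y) := isClosed_singleton_iff_isClosedImmersion.1 hy
  let π : pullback (W.fromSpecResidueField w ≫ g) (Y.fromSpecResidueField y ≫ f) ⟶ pullback g f :=
    pullback.map _ _ _ _ (W.fromSpecResidueField w) (Y.fromSpecResidueField y) (𝟙 X)
      (Category.comp_id _) (Category.comp_id _)
  haveI : IsClosedImmersion π := MorphismProperty.pullbackMap (P := @IsClosedImmersion) inferInstance inferInstance rfl rfl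
  obtain ⟨z, hz⟩ : q ∈ Set.range π := by
    rw [Scheme.Pullback.range_map]
    refine ⟨?_, ?_⟩
    · show w ∈ Set.range (W.fromSpecResidueField w)
      rw [Scheme.range_fromSpecResidueField]; rfl
    · show y ∈ Set.range (Y.fromSpecResidueField y)
      rw [Scheme.range_fromSpecResidueField]; rfl
  let p := pullback.fst (W.fromSpecResidueField w ≫ g) (Y.fromSpecResidueField y ≫ f)
  have hfib : (p ⁻¹' {p z}).Finite := p.finite_preimage_singleton _
  haveI : T1Space ↥(Spec (W.residueField w)) := inferInstance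
  have hcl : IsClosed ({z} : Set ↥(pullback (W.fromSpecResidueField w ≫ g) (Y.fromSpecResidueField y ≫ f))) := by
    refine closure_subset_iff_isClosed.1 fun c hc => ?_
    have hzc : z ⤳ c := specializes_iff_mem_closure.2 hc
    have hd : _root_.IsDiscrete (p ⁻¹' {p z}) := p.isDiscrete_preimage_singleton _
    haveI := hd.to_subtype
    have hpc : p c = p z := Subsingleton.elim _ _
    have h2 : (⟨z, rfl⟩ : ↥(p ⁻¹' {p z})) ⤳ ⟨c, hpc⟩ := subtype_specializes_iff _ _ |>.2 hzc
    exact (congrArg Subtype.val (specializes_iff_eq.1 h2)).symm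
  rw [← hz, ← Set.image_singleton]
  exact π.isClosedMap _ hcl

end GrothLib.NormDom29
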