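import Groth.Agent.Lib.NormDom29.Basic

/-!
# Normalized blow-ups make centres of divisorial local rings open up
-/

set_option autoImplicit false
set_option linter.all false
set_option backward.isDefEq.respectTransparency false

universe u

open CategoryTheory CategoryTheory.Limits AlgebraicGeometry TopologicalSpace IsLocalRing Opposite
open GrothLib.CartierDescent

noncomputable section

namespace GrothLib.NormDom29

/-- A stage of a sequence of normalized blow-ups over the normalization of `X`. -/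
structure IsStage {X : Scheme.{u}} [IsIntegral X] [QuasiCompact (X.fromSpecStalk (genericPoint X))]
    [QuasiSeparated (X.fromSpecStalk (genericPoint X))] {W : Scheme.{u}} (g : W ⟶ X) (r : W ⟶ Curv2.normalization X) : Prop where
  comm : r ≫ Curv2.normalizationι X = g
  seq : Resolve.IsNormPtBlowupSeq r
  proper : IsProper g
  integral : IsIntegral W
  noeth : IsNoetherian W
  normal : Pi1.IsNormalScheme W
  birat : ∃ V : X.Opens, (V : Set X).Nonempty ∧ IsIso (g ∣_ V)

variable {X : Scheme.{u}} [IsIntegral X] [IsNoetherian X] [QuasiCompact (X.fromSpecStalk (genericPoint X))]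
  [QuasiSeparated (X.fromSpecStalk (genericPoint X))]

theorem stage_zero (hN : HasFiniteNorm X) :
    IsStage (Curv2.normalizationι X) (𝟙 (Curv2.normalization X)) := by
  have hfin := hN X (𝟙 X) inferInstance ⟨⊤, ⟨genericPoint X, trivial⟩, inferInstance⟩
  haveI := hfin
  haveI : IsLocallyNoetherian (Curv2.normalization X) := LocallyOfFiniteType.isLocallyNoetherian (Curv2.normalizationι X)
  haveI : CompactSpace (Curv2.normalization X) := QuasiCompact.compactSpace_of_compactSpace (Curv2.normalizationι X)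
  exact ⟨Category.id_comp _, .iso (Iso.refl _), inferInstance, inferInstance, ⟨⟩,
    GrothLib.NormFib.isNormalScheme_normalization, GrothLib.NormFib.exists_isIso_of_finite hfin⟩

theorem genericPoint_mem {V : X.Opens} (hV : (V : Set X).Nonempty) : genericPoint X ∈ V :=
  ((genericPoint_spec X).mem_open_set_iff V.isOpen).mpr (by simpa using hV)

theorem IsStage.apply_genericPoint {W : Scheme.{u}} [IsIntegral W] {g : W ⟶ X} {r : W ⟶ Curv2.normalization X}
    (h : IsStage g r) : g (genericPoint W) = genericPoint X := by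
  haveI := h.proper
  obtain ⟨V, hV, hVi⟩ := h.birat
  haveI := hVi
  haveI := GrothLib.CurveResol29.isDominant_of_isIso_over g V hV
  exact GrothLib.CurveResol29.genericPoint_map' g

theorem IsStage.eq_genericPoint {W : Scheme.{u}} [IsIntegral W] {g : W ⟶ X} {r : W ⟶ Curv2.normalization X}
    (h : IsStage g r) {w : W} (hw : g w = genericPoint X) : w = genericPoint W := by
  obtain ⟨V, hV, hVi⟩ := h.birat
  haveI := hVi
  exact GrothLib.ArSurf29.injective_over_open g V (hw ▸ genericPoint_mem hV) (hw.trans h.apply_genericPoint.symm)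

/-- One normalized blow-up of a closed point, with the lifts of the local curves through it. -/
theorem exists_stage_step (hN : HasFiniteNorm X)
    (hXη : ¬ IsClosed ({genericPoint X} : Set X)) {W : Scheme.{u}} {g : W ⟶ X} {r : W ⟶ Curv2.normalization X}
    (hst : IsStage g r) {z : W} (hz : IsClosed ({z} : Set W)) :
    ∃ (W' : Scheme.{u}) (π : W' ⟶ W) (r' : W' ⟶ Curv2.normalization X), IsStage (π ≫ g) r' ∧
      ∀ {T : Scheme.{u}} [IsIntegral T] [IsLocallyNoetherian T] (τ : T ⟶ W),
        (∀ t : T, IsRegularLocalRing (T.presheaf.stalk t)) → topologicalKrullDim T ≤ 1 →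
        (τ ≫ g) (genericPoint T) = genericPoint X →
        ∃ τ' : T ⟶ W', τ' ≫ π = τ ∧ ∀ t₀ : T, τ t₀ = z → ∃ γ : T.presheaf.stalk t₀, γ ∈ maximalIdeal (T.presheaf.stalk t₀) ∧
          γ ∈ Set.range (τ'.stalkMap t₀) ∧
          ∀ m ∈ maximalIdeal (W.presheaf.stalk (τ t₀)), ∃ e ∈ Set.range (τ'.stalkMap t₀), τ.stalkMap t₀ m = γ * e := by
  haveI := hst.integral; haveI := hst.proper; haveI := hst.noeth
  have hzη : z ≠ genericPoint W := by
    rintro rfl
    refine hXη ?_
    rw [← hst.apply_genericPoint, ← Set.image_singleton]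
    exact g.isClosedMap _ hz
  set J := Scheme.IdealSheafData.vanishingIdeal (X := W) ⟨{z}, hz⟩ with hJdef
  have hJsupp : (J.support : Set W) = {z} := Scheme.IdealSheafData.coe_support_vanishingIdeal _
  have hJbot : J ≠ ⊥ := fun h0 => hzη (by
    have : genericPoint W ∈ (J.support : Set W) := by rw [h0, Scheme.IdealSheafData.support_bot]; trivial
    rw [hJsupp] at this
    exact this.symm)
  obtain ⟨Z, b, hb⟩ := GrothLib.BlowUp.exists_isBlowUp W J
  obtain ⟨hZ, hgen, -⟩ := Groth.Agent.S2348.result J hJbot b hb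
  haveI := hZ
  haveI : IsProper b := GrothLib.BlowUpProper.isProper_of_isBlowUp hb
  haveI : IsLocallyNoetherian Z := LocallyOfFiniteType.isLocallyNoetherian b
  haveI : CompactSpace Z := QuasiCompact.compactSpace_of_compactSpace b
  haveI : IsNoetherian Z := ⟨⟩
  haveI : QuasiCompact (Z.fromSpecStalk (genericPoint Z)) := inferInstance
  haveI : QuasiSeparated (Z.fromSpecStalk (genericPoint Z)) := inferInstance
  have hU : genericPoint W ∈ J.support.compl := by
    show genericPoint W ∉ (J.support : Set W)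
    rw [hJsupp]
    exact fun h0 => hzη h0.symm
  have hfin := hN Z (b ≫ g) inferInstance (GrothLib.RatSing29.exists_isIso_comp b g
    ⟨J.support.compl, ⟨_, hU⟩, GrothLib.BlowUp.isIso_off_center hb⟩ hst.birat)
  haveI := hfin
  let ν := Curv2.normalizationι Z
  haveI : IsLocallyNoetherian (Curv2.normalization Z) := LocallyOfFiniteType.isLocallyNoetherian ν
  haveI : CompactSpace (Curv2.normalization Z) := QuasiCompact.compactSpace_of_compactSpace ν
  refine ⟨Curv2.normalization Z, ν ≫ b, ν ≫ b ≫ r, ?_, ?_⟩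
  · refine ⟨by rw [Category.assoc, Category.assoc, Category.assoc, hst.comm], .step b r z hz hb hst.seq, ?_,
      inferInstance, ⟨⟩, GrothLib.NormFib.isNormalScheme_normalization, ?_⟩
    · rw [Category.assoc]
      infer_instance
    · exact GrothLib.RatSing29.exists_isIso_comp (ν ≫ b) g
        (GrothLib.RatSing29.exists_isIso_comp ν b (GrothLib.NormFib.exists_isIso_of_finite hfin)
          ⟨J.support.compl, ⟨_, hU⟩, GrothLib.BlowUp.isIso_off_center hb⟩) hst.birat
  intro T _ _ τ hTreg hTdim hTη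
  have hτη : τ (genericPoint T) = genericPoint W := hst.eq_genericPoint (by rw [← Scheme.Hom.comp_apply, hTη])
  have hηsupp : genericPoint T ∉ (J.comap τ).support := by
    rw [Scheme.IdealSheafData.support_comap]
    intro hmem
    have hmem' : τ (genericPoint T) ∈ (J.support : Set W) := hmem
    rw [hτη] at hmem'
    exact hU hmem'
  obtain ⟨σ, hσ, -⟩ := hb.2 T τ (GrothLib.CurveResol29.isEffCartierIdeal_of_regular_curve hTreg hTdim _ hηsupp)
  have hTn : Pi1.IsNormalScheme T := fun t => by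
    haveI := hTreg t
    exact ⟨inferInstance, GrothLib.RegLoc.isIntegrallyClosed_of_isRegularLocalRing _⟩
  have hση : σ (genericPoint T) = genericPoint Z := by
    haveI := GrothLib.BlowUp.isIso_off_center hb
    have h1 : b (σ (genericPoint T)) = genericPoint W := by rw [← Scheme.Hom.comp_apply, hσ, hτη]
    exact GrothLib.ArSurf29.injective_over_open b J.support.compl (h1 ▸ hU) (h1.trans hgen.symm)
  obtain ⟨τ', hτ', -⟩ := NormFac9.existsUnique_fac σ hTn fun t ht => by
    rw [irreducibleComponents_eq_singleton, Set.mem_singleton_iff] at ht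
    rw [(isGenericPoint_def.2 ht).eq (genericPoint_spec T)]
    exact hση
  refine ⟨τ', by rw [reassoc_of% hτ', hσ], fun t₀ hτz => ?_⟩
  obtain ⟨γ, hγ, hspan⟩ := exists_stalk_generator hb.1 (σ t₀)
  have hsub := range_stalkMap_subset σ τ' ν hτ' t₀
  refine ⟨σ.stalkMap t₀ γ, ?_, hsub ⟨γ, rfl⟩, ?_⟩
  · refine (IsLocalRing.mem_maximalIdeal _).2 fun hu => ?_
    have hu' : IsUnit γ := (isUnit_map_iff (σ.stalkMap t₀).hom γ).1 hu
    have htop : stalkIdeal (J.comap b) (σ t₀) = ⊤ := by
      rw [hspan, Ideal.span_singleton_eq_top.2 hu']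
    rw [stalkIdeal_eq_top_iff, Scheme.IdealSheafData.support_comap] at htop
    refine htop ?_
    show b (σ t₀) ∈ (J.support : Set W)
    rw [← Scheme.Hom.comp_apply, hσ, hτz, hJsupp]
    exact Set.mem_singleton z
  · subst hσ
    intro m hm
    have hbz : b (σ t₀) = z := (Scheme.Hom.comp_apply σ b t₀).symm.trans hτz
    have hmax : stalkIdeal J (b (σ t₀)) = maximalIdeal (W.presheaf.stalk (b (σ t₀))) := by
      have key : ∀ (w : W), w = z → stalkIdeal J w = maximalIdeal (W.presheaf.stalk w) := by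
        rintro w rfl
        exact GrothLib.ExcP1.stalkIdeal_vanishingIdeal hz
      exact key _ hbz
    have hmem : b.stalkMap (σ t₀) m ∈ stalkIdeal (J.comap b) (σ t₀) := by
      rw [stalkIdeal_comap, hmax]
      exact Ideal.mem_map_of_mem _ hm
    rw [hspan, Ideal.mem_span_singleton'] at hmem
    obtain ⟨e, he⟩ := hmem
    refine ⟨σ.stalkMap t₀ e, hsub ⟨e, rfl⟩, ?_⟩
    rw [← map_mul, mul_comm, he]
    exact congr($(Scheme.Hom.stalkMap_comp σ b t₀) m)

/-- Normalized blow-ups make the centre of a divisorial local ring non-closed. -/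
theorem exists_centre_open (hN : HasFiniteNorm X)
    (hXη : ¬ IsClosed ({genericPoint X} : Set X))
    (P : ∀ {W : Scheme.{u}}, (W ⟶ X) → Prop)
    (hP : ∀ {W W' : Scheme.{u}} (g : W ⟶ X) (π : W' ⟶ W) (r : W ⟶ Curv2.normalization X) (r' : W' ⟶ Curv2.normalization X)
      (z : W), IsStage g r → IsStage (π ≫ g) r' → IsClosed ({z} : Set W) →
      (∀ {T : Scheme.{u}} [IsIntegral T] [IsLocallyNoetherian T] (τ : T ⟶ W),
        (∀ t : T, IsRegularLocalRing (T.presheaf.stalk t)) → topologicalKrullDim T ≤ 1 →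
        (τ ≫ g) (genericPoint T) = genericPoint X → ∃ τ' : T ⟶ W', τ' ≫ π = τ) →
      P g → P (π ≫ g))
    {T : Scheme.{u}} [IsIntegral T] [IsLocallyNoetherian T] (t₀ : T) (hTreg : ∀ t : T, IsRegularLocalRing (T.presheaf.stalk t))
    (hTdim : topologicalKrullDim T ≤ 1) (fT : T ⟶ X) (hfTη : fT (genericPoint T) = genericPoint X)
    (hfTb : Function.Bijective (fT.stalkMap (genericPoint T)))
    (hres : ¬ (fT.residueFieldMap t₀).hom.IsIntegral)
    {W : Scheme.{u}} {g : W ⟶ X} {r : W ⟶ Curv2.normalization X} (hst : IsStage g r) (hPW : P g)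
    (τ : T ⟶ W) (hτ : τ ≫ g = fT) :
    ∃ (W' : Scheme.{u}) (g' : W' ⟶ X) (r' : W' ⟶ Curv2.normalization X), IsStage g' r' ∧ P g' ∧
      ∃ τ' : T ⟶ W', τ' ≫ g' = fT ∧ ¬ IsClosed ({τ' t₀} : Set W') := by
  obtain ⟨κ, hκ⟩ := not_forall.1 hres
  obtain ⟨a, rfl⟩ := T.residue_surjective t₀ κ
  haveI := hst.integral; haveI := hst.noeth
  have hτη : τ (genericPoint T) = genericPoint W := hst.eq_genericPoint (by rw [← Scheme.Hom.comp_apply, hτ, hfTη])
  have hτb : Function.Bijective (τ.stalkMap (genericPoint T)) := by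
    subst hτ
    have hgb : Function.Bijective (g.stalkMap (τ (genericPoint T))) := by
      obtain ⟨V, hV, hVi⟩ := hst.birat
      haveI := hVi
      have key : ∀ e : W, e = genericPoint W → Function.Bijective (g.stalkMap e) := by
        rintro e rfl
        exact (GrothLib.ExcP1.birational_of_iso_over (f := g) V hV).2
      exact key _ hτη
    refine ⟨fun x y hxy => ?_, fun y => ?_⟩
    · obtain ⟨x, rfl⟩ := hgb.2 x
      obtain ⟨y, rfl⟩ := hgb.2 y
      exact congrArg _ (hfTb.1 ((congr($(Scheme.Hom.stalkMap_comp τ g (genericPoint T)) x)).trans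
        (hxy.trans (congr($(Scheme.Hom.stalkMap_comp τ g (genericPoint T)) y)).symm)))
    · obtain ⟨x, hx⟩ := hfTb.2 y
      exact ⟨g.stalkMap _ x, (congr($(Scheme.Hom.stalkMap_comp τ g (genericPoint T)) x)).symm.trans hx⟩
  obtain ⟨c₀, hc₀, hc₀ne, hac₀⟩ := exists_fraction τ hτη hτb t₀ a
  suffices key : ∀ (I : Ideal (T.presheaf.stalk t₀)) (W : Scheme.{u}) (g : W ⟶ X) (r : W ⟶ Curv2.normalization X),
      IsStage g r → P g → ∀ τ : T ⟶ W, τ ≫ g = fT → ∀ c ∈ Set.range (τ.stalkMap t₀), c ≠ 0 →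
      a * c ∈ Set.range (τ.stalkMap t₀) → Ideal.span {c} = I →
      ∃ (W' : Scheme.{u}) (g' : W' ⟶ X) (r' : W' ⟶ Curv2.normalization X), IsStage g' r' ∧ P g' ∧
        ∃ τ' : T ⟶ W', τ' ≫ g' = fT ∧ ¬ IsClosed ({τ' t₀} : Set W') by
    exact key _ W g r hst hPW τ hτ c₀ hc₀ hc₀ne hac₀ rfl
  intro I
  induction I using WellFoundedGT.induction with
  | _ I ih =>
  intro W g r hst hPW τ hτ c hc hc0 hac hI
  by_cases hcl : IsClosed ({τ t₀} : Set W)
  swap
  · exact ⟨W, g, r, hst, hPW, τ, hτ, hcl⟩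
  haveI := hst.integral; haveI := hst.proper; haveI := hst.noeth
  obtain ⟨c', rfl⟩ := hc
  obtain ⟨b', hb'⟩ := hac
  have hcm : c' ∈ maximalIdeal (W.presheaf.stalk (τ t₀)) := by
    refine (IsLocalRing.mem_maximalIdeal _).2 fun hu => hκ ?_
    refine integral_elem_comp τ g t₀ hcl fT hτ a ?_
    obtain ⟨v, rfl⟩ := hu
    refine ⟨b' * ↑v⁻¹, ?_⟩
    rw [map_mul, hb', mul_assoc, ← map_mul, Units.mul_inv, map_one, mul_one]
  have hbm : b' ∈ maximalIdeal (W.presheaf.stalk (τ t₀)) := by
    refine (IsLocalRing.mem_maximalIdeal _).2 fun hu => ?_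
    have h1 : IsUnit (τ.stalkMap t₀ c') := isUnit_of_mul_isUnit_right (hb' ▸ hu.map (τ.stalkMap t₀).hom)
    exact (IsLocalRing.mem_maximalIdeal _).1 hcm ((isUnit_map_iff (τ.stalkMap t₀).hom c').1 h1)
  obtain ⟨W', π, r', hst', hlift⟩ := exists_stage_step hN hXη hst hcl
  obtain ⟨τ', hτ', hrest⟩ := hlift τ hTreg hTdim (by rw [hτ, hfTη])
  obtain ⟨γ, hγm, hγr, hdiv⟩ := hrest t₀ rfl
  obtain ⟨ec, hec, hce⟩ := hdiv c' hcm
  obtain ⟨eb, heb, hbe⟩ := hdiv b' hbm
  have hγ0 : γ ≠ 0 := fun h0 => hc0 (by rw [hce, h0, zero_mul])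
  have hec0 : ec ≠ 0 := fun h0 => hc0 (by rw [hce, h0, mul_zero])
  have hae : a * ec = eb := by
    refine mul_left_cancel₀ hγ0 ?_
    rw [← hbe, hb', hce]
    ring
  refine ih (Ideal.span {ec}) ?_ W' (π ≫ g) r' hst'
    (hP g π r r' _ hst hst' hcl (fun τ hr hd hη => let ⟨τ', h, _⟩ := hlift τ hr hd hη; ⟨τ', h⟩) hPW)
    τ' (by rw [reassoc_of% hτ', hτ]) ec hec hec0 (by rw [hae]; exact heb) rfl
  rw [← hI, hce]
  refine lt_of_le_of_ne (Ideal.span_singleton_le_span_singleton.2 (dvd_mul_left ec γ)) fun he => ?_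
  obtain ⟨u, hu⟩ := Ideal.span_singleton_eq_span_singleton.1 he
  have hu1 : γ * (u : T.presheaf.stalk t₀) = 1 := mul_right_cancel₀ hec0 (by rw [one_mul]; linear_combination hu)
  exact (IsLocalRing.mem_maximalIdeal _).1 hγm (IsUnit.of_mul_eq_one _ hu1)

end GrothLib.NormDom29
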