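import Groth.Agent.Lib.NormDom29.Main
import Groth.Agent.Lib.RatSing29.GraphModel

/-!
# Normalized blow-ups extend rational maps from surfaces
-/

set_option autoImplicit false
set_option linter.all false
set_option backward.isDefEq.respectTransparency false

universe u

open CategoryTheory CategoryTheory.Limits AlgebraicGeometry TopologicalSpace Opposite

noncomputable section

namespace GrothLib.NormDom29

/-- The closure of the graph of a morphism defined on a nonempty open of an integral scheme. -/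
theorem exists_graph_closure {S X Y : Scheme.{u}} [IsIntegral X] [IsNoetherian X] (p : X ⟶ S) (q : Y ⟶ S) [IsProper q]
    (U : X.Opens) (hU : (U : Set X).Nonempty) (f : (U : Scheme.{u}) ⟶ Y) (hf : f ≫ q = U.ι ≫ p) :
    ∃ (Y' : Scheme.{u}) (_ : IsIntegral Y') (pr : Y' ⟶ X) (sd : Y' ⟶ Y) (σ : (U : Scheme.{u}) ⟶ Y'),
      IsProper pr ∧ sd ≫ q = pr ≫ p ∧ σ ≫ sd = f ∧ IsPullback σ (𝟙 _) pr U.ι ∧ IsIso (pr ∣_ U) := by
  haveI : Nonempty U := ⟨⟨_, hU.some_mem⟩⟩
  haveI : IsIntegral (U : Scheme.{u}) := isIntegral_of_isOpenImmersion U.ι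
  let γ : (U : Scheme.{u}) ⟶ pullback p q := pullback.lift U.ι f hf.symm
  let P := pullback.fst p q
  haveI : IsProper P := MorphismProperty.pullback_fst p q ‹IsProper q›
  haveI : CompactSpace (U : Scheme.{u}) := isCompact_iff_compactSpace.1 (NoetherianSpace.isCompact _)
  haveI : QuasiCompact γ := by
    haveI : QuasiCompact (γ ≫ P) := by rw [pullback.lift_fst]; infer_instance
    exact QuasiCompact.of_comp γ P
  haveI : IsImmersion γ := by
    haveI : IsImmersion (γ ≫ P) := by rw [pullback.lift_fst]; infer_instance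
    exact IsImmersion.of_comp γ P
  haveI : IsIntegral γ.image := GrothLib.CycP1.isIntegral_image γ
  let pr := γ.imageι ≫ P
  have hσ : γ.toImage ≫ pr = U.ι := by
    simp only [pr, Scheme.Hom.toImage_imageι_assoc]
    exact pullback.lift_fst _ _ _
  let γK : (U : Scheme.{u}) ⟶ pullback P U.ι := pullback.lift γ (𝟙 _) (by
    rw [Category.id_comp]; exact pullback.lift_fst _ _ _)
  haveI : IsProper γK := by
    haveI : IsProper (γK ≫ pullback.snd P U.ι) := by
      rw [pullback.lift_snd]; infer_instance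
    haveI : IsSeparated (pullback.snd P U.ι) := MorphismProperty.pullback_snd P U.ι inferInstance
    exact IsProper.of_comp γK (pullback.snd P U.ι)
  have hclosed : ∀ z : γ.image, pr z ∈ Set.range U.ι → z ∈ Set.range γ.toImage := by
    intro z hz
    obtain ⟨k, hk⟩ : γ.imageι z ∈ Set.range (pullback.fst P U.ι) := by
      rw [Scheme.Pullback.range_fst]; exact hz
    have h2 : k ∈ Set.range γK := by
      have h3 : γ.imageι z ∈ closure (Set.range γ) := by
        exact map_mem_closure γ.imageι.continuous (γ.toImage.denseRange z) (t := Set.range γ) (by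
          rintro _ ⟨c', rfl⟩
          exact ⟨c', by rw [← Scheme.Hom.comp_apply, Scheme.Hom.toImage_imageι]⟩)
      rw [← γK.isClosedMap.isClosed_range.closure_eq,
        (pullback.fst P U.ι).isEmbedding.isInducing.closure_eq_preimage_closure_image, Set.mem_preimage, hk]
      refine closure_mono ?_ h3
      rintro _ ⟨c', rfl⟩
      exact ⟨γK c', ⟨c', rfl⟩, by rw [← Scheme.Hom.comp_apply, pullback.lift_fst]⟩
    obtain ⟨c', hc'⟩ := h2
    refine ⟨c', γ.imageι.isClosedEmbedding.injective ?_⟩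
    rw [← Scheme.Hom.comp_apply, Scheme.Hom.toImage_imageι, ← hk, ← hc', ← Scheme.Hom.comp_apply, pullback.lift_fst]
  obtain ⟨hsq, hiso⟩ := GrothLib.RatSing29.isPullback_of_section pr U.ι γ.toImage hσ hclosed
  refine ⟨γ.image, inferInstance, pr, γ.imageι ≫ pullback.snd p q, γ.toImage, inferInstance, ?_, ?_, hsq, ?_⟩
  · simp only [pr, P, Category.assoc, pullback.condition]
  · rw [Scheme.Hom.toImage_imageι_assoc]
    exact pullback.lift_snd _ _ _
  · rwa [Scheme.Opens.opensRange_ι] at hiso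

/-- Normalized blow-ups extend rational maps from a surface to a proper scheme. -/
theorem exists_stage_extend {S X Y : Scheme.{u}} [IsIntegral X] [IsNoetherian X]
    (hN : ∀ V : X.affineOpens, CAlg.IsNagata Γ(X, V.1)) (hdim : topologicalKrullDim X = 2)
    [QuasiCompact (X.fromSpecStalk (genericPoint X))] [QuasiSeparated (X.fromSpecStalk (genericPoint X))]
    (p : X ⟶ S) (q : Y ⟶ S) [IsProper q]
    (U : X.Opens) (hU : (U : Set X).Nonempty) (f : (U : Scheme.{u}) ⟶ Y) (hf : f ≫ q = U.ι ≫ p) :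
    ∃ (W : Scheme.{u}) (g : W ⟶ X) (r : W ⟶ Curv2.normalization X), IsStage g r ∧
      ∃ fn : W ⟶ Y, fn ≫ q = g ≫ p ∧ (g ⁻¹ᵁ U).ι ≫ fn = (g ∣_ U) ≫ f := by
  obtain ⟨Y', hY', pr, sd, σ, hpr, hw, hσ, hsq, hiso⟩ := exists_graph_closure p q U hU f hf
  haveI := hY'; haveI := hpr
  obtain ⟨W, g, r, hst, h, hh⟩ := exists_stage_dominate (hasFiniteNorm_of_nagata hN) hdim pr ⟨U, hU, hiso⟩
  refine ⟨W, g, r, hst, h ≫ sd, by rw [Category.assoc, hw, reassoc_of% hh], ?_⟩
  have hcomm : ((g ⁻¹ᵁ U).ι ≫ h) ≫ pr = (g ∣_ U) ≫ U.ι := by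
    rw [Category.assoc, hh, morphismRestrict_ι]
  have h1 := hsq.lift_fst _ _ hcomm
  have h2 := hsq.lift_snd _ _ hcomm
  rw [Category.comp_id] at h2
  rw [← reassoc_of% h1, hσ, h2]

end GrothLib.NormDom29
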